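import Mathlib
import Cfsg.Agent.Lib.Helper5.QuadSign.Main

set_option autoImplicit false

/-!
# Isometries of odd order prime to the characteristic lie in `Ω`, in all characteristics
-/

namespace Cfsg.Agent.Lib.Helper5.NsPt

open QuadraticMap Module Matrix Polynomial Cfsg
open Cfsg.Agent.Lib.Helper5.QuadTwo Cfsg.Agent.Lib.Helper5.SemiConj
open Cfsg.Agent.Lib.Helper5.SemiCount Cfsg.Agent.Lib.Helper5.OrthPrime

universe u

open scoped commutatorElement

variable {F : Type u} [Field F] [Fintype F] {ι : Type} [Fintype ι] [DecidableEq ι]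

omit [Fintype F] in
/-- an isometry and its inverse have the same characteristic polynomial -/
theorem charpoly_inv_isom (Q : QuadraticForm F (ι → F)) (hQ : Nd Q)
    (g : ↥(Cfsg.isometryGroup F ⇑Q)) :
    ((g⁻¹ : ↥(Cfsg.isometryGroup F ⇑Q)) : GL ι F).val.charpoly =
      ((g : GL ι F) : Matrix ι ι F).charpoly := by
  have h1 := (qsOf Q hQ).charpoly_star g
  have hdet : ((g : GL ι F) : Matrix ι ι F).det ≠ 0 := Matrix.GeneralLinearGroup.det_ne_zero _
  have h2 := charpoly_inv_map_transpose (RingHom.id F) ((g : GL ι F) : Matrix ι ι F) hdet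
  have hid : (((g : GL ι F) : Matrix ι ι F)⁻¹).map (RingHom.id F) =
      ((g : GL ι F) : Matrix ι ι F)⁻¹ := by
    ext i j
    rfl
  rw [hid, Matrix.charpoly_transpose] at h2
  have h3 : ((g⁻¹ : ↥(Cfsg.isometryGroup F ⇑Q)) : GL ι F).val =
      ((g : GL ι F) : Matrix ι ι F)⁻¹ := by
    rw [Subgroup.coe_inv, Matrix.coe_units_inv]
  rw [h3, h2]
  exact h1

/-- **isometries of odd order prime to the characteristic lie in `Ω`** -/
theorem mem_Omega_of_odd_order (Q : QuadraticForm F (ι → F)) (hQ : Nd Q)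
    (g : ↥(Cfsg.isometryGroup F ⇑Q)) (r : ℕ) (rodd : Odd r) (r0 : (r : F) ≠ 0)
    (hg : g ^ r = 1) : g ∈ Cfsg.Omega F ⇑Q := by
  have hh : g⁻¹ ^ r = 1 := by rw [inv_pow, hg, inv_one]
  have hconj : IsConj g g⁻¹ :=
    isConj_of_charpoly_eq_all Q hQ g g⁻¹ r rodd r0 hg hh (charpoly_inv_isom Q hQ g).symm
  obtain ⟨u, hu⟩ := isConj_iff.1 hconj
  -- `g⁻² = [g⁻¹, u]`
  have h1 : g⁻¹ * g⁻¹ = ⁅g⁻¹, u⁆ := by
    calc g⁻¹ * g⁻¹ = g⁻¹ * (u * g * u⁻¹) := by rw [hu]
      _ = ⁅g⁻¹, u⁆ := by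
        rw [commutatorElement_def, inv_inv]
        group
  have h2 : g⁻¹ * g⁻¹ ∈ Cfsg.Omega F ⇑Q := by
    rw [h1]
    exact Subgroup.commutator_mem_commutator (Subgroup.mem_top _) (Subgroup.mem_top _)
  have h3 : g * g ∈ Cfsg.Omega F ⇑Q := by
    have := (Cfsg.Omega F ⇑Q).inv_mem h2
    rwa [_root_.mul_inv_rev, inv_inv] at this
  obtain ⟨t, ht⟩ := rodd
  have h4 : g = (g * g) ^ (t + 1) := by
    rw [← pow_two, ← pow_mul]
    have : 2 * (t + 1) = r + 1 := by omega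
    rw [this, pow_succ, hg, one_mul]
  rw [h4]
  exact (Cfsg.Omega F ⇑Q).pow_mem h3 _

end Cfsg.Agent.Lib.Helper5.NsPt
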