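import Mathlib
import Cfsg.Agent.Lib.Helper5.NsPt.OmegaReal

set_option autoImplicit false

/-!
# Fixed-point-free elements of odd prime order in `Ω^±_{2m}(q)`
-/

namespace Cfsg.Agent.Lib.Helper5.NsPt

open QuadraticMap Module Matrix Polynomial Cfsg
open Cfsg.Agent.Lib.Helper5.QuadTwo Cfsg.Agent.Lib.Helper5.SemiConj
open Cfsg.Agent.Lib.Helper5.SemiCount Cfsg.Agent.Lib.Helper5.OrthPrime
open Cfsg.Agent.Lib.Helper5.QuadSign
open Cfsg.Agent.Lib.Helper4.PrimeOrd Cfsg.Agent.Lib.Helper4.SemiMod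

universe u

section semi
variable {F : Type u} [Field F] [Fintype F] (p : ℕ) [Fact p.Prime] [CharP F p]
variable {ι : Type} [Fintype ι] [DecidableEq ι]

include p in
/-- the order of `q` modulo `r` with its cofactor -/
theorem exists_order_setup {q : ℕ} (hF : Fintype.card F = q) (r : ℕ) (hr : r.Prime)
    (hrp : r ≠ p) : (q : ZMod r) ≠ 0 ∧ ∃ t : ℕ, t * orderOf (q : ZMod r) = r - 1 := by
  have hp : p.Prime := Fact.out
  have : Fact r.Prime := ⟨hr⟩
  have hqr : (q : ZMod r) ≠ 0 := by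
    obtain ⟨k, -, hk⟩ := FiniteField.card F p
    rw [Ne, ZMod.natCast_eq_zero_iff, ← hF, hk]
    intro h
    exact hrp ((Nat.prime_dvd_prime_iff_eq hr hp).mp (hr.dvd_of_dvd_pow h))
  refine ⟨hqr, ?_⟩
  obtain ⟨t, ht⟩ := ZMod.orderOf_dvd_card_sub_one hqr
  exact ⟨t, by rw [ht, mul_comm]⟩

include p in
/-- **fixed-point-free elements of `Ω` of a space of sign `-1`** -/
theorem exists_fpf_minus {q : ℕ} (hF : Fintype.card F = q) (Q₀ : QuadraticForm F (ι → F))
    (hQ₀ : Nd Q₀) (m : ℕ) (hcard : Fintype.card ι = 2 * m)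
    (hε : HasSign Q₀ m (-1)) (r : ℕ) (hr : r.Prime) (hr2 : r ≠ 2) (hrp : r ≠ p)
    (hdvd : (r : ℤ) ∣ (q : ℤ) ^ m + 1) :
    ∃ g : ↥(Cfsg.isometryGroup F ⇑Q₀), g ^ r = 1 ∧ g ∈ Cfsg.Omega F ⇑Q₀ ∧
      ∀ v, Matrix.toLin' ((g : GL ι F) : Matrix ι ι F) v = v → v = 0 := by
  have : Fact r.Prime := ⟨hr⟩
  have rodd : Odd r := hr.odd_of_ne_two hr2
  obtain ⟨hqr, t, ht⟩ := exists_order_setup p hF r hr hrp
  set i := orderOf (q : ZMod r) with hi
  obtain ⟨r0, hi', ht1, f, H, π, hπi, hπ, hπe, -⟩ := family_setup p hF r i t hr hr2 hrp hi ht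
  -- `q ^ m = -1` modulo `r`
  have hpow : (q : ZMod r) ^ m = -1 := by
    have h1 := (ZMod.intCast_zmod_eq_zero_iff_dvd ((q : ℤ) ^ m + 1) r).2 hdvd
    push_cast at h1
    exact eq_neg_of_add_eq_zero_left h1
  have hpow2 : (q : ZMod r) ^ (2 * m) = 1 := by
    rw [mul_comm, pow_mul, hpow]
    norm_num
  have hnot : ¬ i ∣ m := by
    intro h
    have h1 := orderOf_dvd_iff_pow_eq_one.1 h
    rw [hpow] at h1
    have h2 : ((2 : ℕ) : ZMod r) = 0 := by
      push_cast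
      have : (2 : ZMod r) = 1 - (-1) := by ring
      rw [this, h1, sub_self]
    rw [ZMod.natCast_eq_zero_iff] at h2
    exact hr2 ((Nat.prime_dvd_prime_iff_eq hr Nat.prime_two).1 h2)
  obtain ⟨k, hk⟩ := orderOf_dvd_iff_pow_eq_one.2 hpow2
  have hkodd : Odd k := by
    rcases Nat.even_or_odd k with ⟨l, hl⟩ | h
    · exfalso
      apply hnot
      exact ⟨l, by rw [hl] at hk; nlinarith⟩
    · exact h
  have hev : Even i := by
    have h1 : Even (i * k) := by rw [← hk]; exact even_two_mul m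
    rcases Nat.even_mul.1 h1 with h | h
    · exact h
    · exact absurd h (Nat.not_even_iff_odd.2 hkodd)
  have hπid := hπe hev
  subst hπid
  let j₀ : Fin t := ⟨0, ht1⟩
  let c : Fin t → ℕ := fun j => if j = j₀ then k else 0
  have hcs : ∑ j, c j = k := by
    simp [c]
  have hfull : i * ∑ j, c j = 2 * m := by rw [hcs, ← hk]
  obtain ⟨g, hg, hcg⟩ := exists_even_Pc p hr2 H hπ hi' hev Q₀ hQ₀ m hcard (-1) (Or.inr rfl) hε c
    (le_of_eq hfull) (fun _ => by rw [hcs]; exact hkodd.neg_one_pow)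
  refine ⟨g, hg, mem_Omega_of_odd_order Q₀ hQ₀ g r rodd r0 hg, ?_⟩
  apply fix_free_of_eval
  rw [hcg]
  exact eval_one_Pc_full H (2 * m) c hfull

include p in
/-- **fixed-point-free elements of `Ω⁺`** -/
theorem exists_fpf_plus {q : ℕ} (hF : Fintype.card F = q) (m : ℕ)
    (r : ℕ) (hr : r.Prime) (hr2 : r ≠ 2) (hrp : r ≠ p)
    (hdvd : (r : ℤ) ∣ (q : ℤ) ^ m - 1) :
    ∃ g : ↥(Cfsg.isometryGroup F (quadFormPlus m F)), g ^ r = 1 ∧
      g ∈ Cfsg.Omega F (quadFormPlus m F) ∧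
      ∀ v, Matrix.toLin' ((g : GL (Fin m ⊕ Fin m) F) :
        Matrix (Fin m ⊕ Fin m) (Fin m ⊕ Fin m) F) v = v → v = 0 := by
  have : Fact r.Prime := ⟨hr⟩
  have rodd : Odd r := hr.odd_of_ne_two hr2
  obtain ⟨hqr, t, ht⟩ := exists_order_setup p hF r hr hrp
  set i := orderOf (q : ZMod r) with hi
  obtain ⟨r0, hi', ht1, f, H, π, hπi, hπ, hπe, hπo⟩ := family_setup p hF r i t hr hr2 hrp hi ht
  have hpow : (q : ZMod r) ^ m = 1 := by
    have h1 := (ZMod.intCast_zmod_eq_zero_iff_dvd ((q : ℤ) ^ m - 1) r).2 hdvd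
    push_cast at h1
    exact sub_eq_zero.1 h1
  obtain ⟨k, hk⟩ := orderOf_dvd_iff_pow_eq_one.2 hpow
  let j₀ : Fin t := ⟨0, ht1⟩
  have key : ∃ g : ↥(Cfsg.isometryGroup F (quadFormPlus m F)), g ^ r = 1 ∧
      ∃ c : Fin t → ℕ, i * ∑ j, c j = 2 * m ∧
        ((g : GL (Fin m ⊕ Fin m) F) : Matrix (Fin m ⊕ Fin m) (Fin m ⊕ Fin m) F).charpoly =
          Pc (2 * m) i t f c := by
    by_cases hev : Even i
    · have hπid := hπe hev
      subst hπid
      let c : Fin t → ℕ := fun j => if j = j₀ then 2 * k else 0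
      have hcs : ∑ j, c j = 2 * k := by
        simp [c]
      have hfull : i * ∑ j, c j = 2 * m := by rw [hcs, hk]; ring
      obtain ⟨g, hg, hcg⟩ := exists_even_Pc p hr2 H hπ hi' hev (qPlus m) (nd_qPlus m) m
        (by simp; ring) 1 (Or.inl rfl) (hasSign_qPlus m) c
        (le_of_eq hfull) (fun _ => by rw [hcs]; exact (even_two_mul k).neg_one_pow)
      exact ⟨g, hg, c, hfull, hcg⟩
    · have hfp := hπo hev
      let c : Fin t → ℕ := fun j => (if j = j₀ then k else 0) + (if j = π j₀ then k else 0)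
      have hcs : ∑ j, c j = 2 * k := by
        simp only [c, Finset.sum_add_distrib]
        simp
        ring
      have hfull : i * ∑ j, c j = 2 * m := by rw [hcs, hk]; ring
      have hcπ : ∀ j, c (π j) = c j := by
        intro j
        simp only [c]
        have e1 : (π j = j₀) ↔ (j = π j₀) := by
          constructor
          · intro h; rw [← h, hπi j]
          · intro h; rw [h, hπi j₀]
        have e2 : (π j = π j₀) ↔ (j = j₀) := hπi.injective.eq_iff
        simp only [e1, e2]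
        ring
      obtain ⟨g, hg, hcg⟩ := exists_plus_Pc_odd p H π hπi hπ hfp m c (le_of_eq hfull) hcπ
      exact ⟨g, hg, c, hfull, hcg⟩
  obtain ⟨g, hg, c, hfull, hcg⟩ := key
  refine ⟨g, hg, mem_Omega_of_odd_order (qPlus m) (nd_qPlus m) g r rodd r0 hg, ?_⟩
  apply fix_free_of_eval
  rw [hcg]
  exact eval_one_Pc_full H (2 * m) c hfull

end semi

end Cfsg.Agent.Lib.Helper5.NsPt
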