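import Mathlib
import Cfsg.Agent.Lib.Helper5.QuadSign.Sign

set_option autoImplicit false

/-!
# The number of nonsingular points of a quadratic space over a finite field
-/

namespace Cfsg.Agent.Lib.Helper5.NsPt

open Module Cfsg.Agent.Lib.Helper5.QuadTwo Cfsg.Agent.Lib.Helper5.QuadSign

universe u v

variable {F : Type u} [Field F] [Fintype F] {V : Type v} [AddCommGroup V] [Module F V]

omit [Fintype F] in
/-- a line is spanned by each of its nonzero vectors -/
theorem exists_smul_of_finrank_one {W : Submodule F V} (hW : finrank F W = 1) {v : V}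
    (hv : v ∈ W) (hv0 : v ≠ 0) {w : V} (hw : w ∈ W) : ∃ c : F, c • v = w := by
  have hv0' : (⟨v, hv⟩ : W) ≠ 0 := fun h => hv0 (congrArg Subtype.val h)
  obtain ⟨c, hc⟩ := (finrank_eq_one_iff_of_nonzero' (⟨v, hv⟩ : W) hv0').1 hW ⟨w, hw⟩
  exact ⟨c, congrArg Subtype.val hc⟩

/-- the nonsingular vectors are fibred over the nonsingular points -/
theorem card_points_mul [Finite V] (Q : V → F) (hQ : ∀ (c : F) (v : V), Q (c • v) = c ^ 2 * Q v) :
    Nat.card {W : Submodule F V // finrank F W = 1 ∧ ∃ v ∈ W, Q v ≠ 0} *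
      (Fintype.card F - 1) = Nat.card {v : V // Q v ≠ 0} := by
  classical
  have hQ0 : Q 0 = 0 := by
    have := hQ 0 0
    rw [zero_smul] at this
    rw [this]
    ring
  have hne0 : ∀ v : V, Q v ≠ 0 → v ≠ 0 := by
    rintro v hv rfl
    exact hv hQ0
  let P := {W : Submodule F V // finrank F W = 1 ∧ ∃ v ∈ W, Q v ≠ 0}
  have hgen : ∀ W : P, ∃ v : V, v ∈ W.1 ∧ Q v ≠ 0 := fun W => W.2.2
  choose gen hgenW hgenQ using hgen
  let φ : P × Fˣ → {v : V // Q v ≠ 0} := fun x => ⟨(x.2 : F) • gen x.1, by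
    rw [hQ]
    exact mul_ne_zero (pow_ne_zero _ x.2.ne_zero) (hgenQ x.1)⟩
  have hφ : Function.Bijective φ := by
    constructor
    · rintro ⟨W, c⟩ ⟨W', c'⟩ h
      have h1 : (c : F) • gen W = (c' : F) • gen W' := congrArg Subtype.val h
      have hmem : (c : F) • gen W ∈ W.1 := W.1.smul_mem _ (hgenW W)
      have hmem' : (c : F) • gen W ∈ W'.1 := by
        rw [h1]
        exact W'.1.smul_mem _ (hgenW W')
      have hnz : (c : F) • gen W ≠ 0 := smul_ne_zero c.ne_zero (hne0 _ (hgenQ W))
      have hWW : W = W' := by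
        apply Subtype.ext
        apply le_antisymm
        · intro w hw
          obtain ⟨t, ht⟩ := exists_smul_of_finrank_one W.2.1 hmem hnz hw
          rw [← ht]
          exact W'.1.smul_mem _ hmem'
        · intro w hw
          obtain ⟨t, ht⟩ := exists_smul_of_finrank_one W'.2.1 hmem' hnz hw
          rw [← ht]
          exact W.1.smul_mem _ hmem
      subst hWW
      have h2 : ((c : F) - (c' : F)) • gen W = 0 := by rw [sub_smul, h1, sub_self]
      have h3 : (c : F) - (c' : F) = 0 :=
        (smul_eq_zero.1 h2).resolve_right (hne0 _ (hgenQ W))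
      have h4 : c = c' := Units.ext (sub_eq_zero.1 h3)
      rw [h4]
    · rintro ⟨v, hv⟩
      have hv0 := hne0 v hv
      let W : P := ⟨Submodule.span F {v}, finrank_span_singleton hv0,
        v, Submodule.mem_span_singleton_self v, hv⟩
      obtain ⟨t, ht⟩ := Submodule.mem_span_singleton.1 (hgenW W)
      have ht0 : t ≠ 0 := by
        rintro rfl
        rw [zero_smul] at ht
        exact hne0 _ (hgenQ W) ht.symm
      refine ⟨(W, Units.mk0 t⁻¹ (inv_ne_zero ht0)), ?_⟩
      apply Subtype.ext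
      show (t⁻¹ : F) • gen W = v
      rw [← ht, smul_smul, inv_mul_cancel₀ ht0, one_smul]
  have h1 := Nat.card_congr (Equiv.ofBijective φ hφ)
  rw [Nat.card_prod, Nat.card_eq_fintype_card (α := Fˣ), Fintype.card_units] at h1
  exact h1

omit [Fintype F] [AddCommGroup V] [Module F V] in
/-- singular and nonsingular vectors -/
theorem card_nonsing_add_zeros [Finite V] (Q : V → F) :
    Nat.card {v : V // Q v ≠ 0} + zeros Q = Nat.card V := by
  classical
  have := Fintype.ofFinite V
  unfold zeros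
  rw [Nat.card_eq_fintype_card, Nat.card_eq_fintype_card, Nat.card_eq_fintype_card,
    Fintype.card_subtype_compl (fun v => Q v = 0)]
  have := Fintype.card_subtype_le (fun v : V => Q v = 0)
  omega

/-- **the number of nonsingular points** of a space of dimension `2k` and sign `s` -/
theorem card_points_of_hasSign [FiniteDimensional F V] (Q : V → F)
    (hQ : ∀ (c : F) (v : V), Q (c • v) = c ^ 2 * Q v) {k : ℕ} (hk : finrank F V = 2 * k)
    {s : ℤ} (hs : HasSign Q k s) :
    (Nat.card {W : Submodule F V // finrank F W = 1 ∧ ∃ v ∈ W, Q v ≠ 0} : ℤ) *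
      (Fintype.card F : ℤ) = (Fintype.card F : ℤ) ^ k * ((Fintype.card F : ℤ) ^ k - s) := by
  have hfin : Finite V := Module.finite_of_finite F
  have h1 := card_points_mul Q hQ
  have h2 := card_nonsing_add_zeros Q
  have h3 : Nat.card V = Fintype.card F ^ (2 * k) := by
    rw [← hk, ← Nat.card_eq_fintype_card]
    exact Module.natCard_eq_pow_finrank
  have hq1 : 1 ≤ Fintype.card F := Fintype.card_pos
  unfold HasSign at hs
  have h4 : (Nat.card {W : Submodule F V // finrank F W = 1 ∧ ∃ v ∈ W, Q v ≠ 0} : ℤ) *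
      ((Fintype.card F : ℤ) - 1) + (zeros Q : ℤ) = (Fintype.card F : ℤ) ^ (2 * k) := by
    have : ((Fintype.card F - 1 : ℕ) : ℤ) = (Fintype.card F : ℤ) - 1 := by
      rw [Nat.cast_sub hq1]
      simp
    rw [← this]
    exact_mod_cast (by rw [h1, h2, h3] : Nat.card {W : Submodule F V // finrank F W = 1 ∧
      ∃ v ∈ W, Q v ≠ 0} * (Fintype.card F - 1) + zeros Q = Fintype.card F ^ (2 * k))
  have hq1' := card_sub_one_pos (F := F)
  have h5 : ((Nat.card {W : Submodule F V // finrank F W = 1 ∧ ∃ v ∈ W, Q v ≠ 0} : ℤ) *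
      (Fintype.card F : ℤ) - (Fintype.card F : ℤ) ^ k * ((Fintype.card F : ℤ) ^ k - s)) *
      ((Fintype.card F : ℤ) - 1) = 0 := by
    have e : (Fintype.card F : ℤ) ^ (2 * k) = (Fintype.card F : ℤ) ^ k * (Fintype.card F : ℤ) ^ k := by
      rw [two_mul, pow_add]
    rw [e] at h4 hs
    linear_combination (Fintype.card F : ℤ) * h4 - hs
  have h6 := (mul_eq_zero.1 h5).resolve_right (ne_of_gt hq1')
  linarith

end Cfsg.Agent.Lib.Helper5.NsPt
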