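import Mathlib
import Cfsg.Prelude.Def_GeometricClasses
import Cfsg.Agent.Lib.Helper5.NsPt.Semi
import Cfsg.Agent.Lib.Helper5.NsPt.Count

set_option autoImplicit false

/-!
# Nonsingular points fixed by isometries in characteristic two
-/

namespace Cfsg.Agent.Lib.Helper5.NsPt

open QuadraticMap Module Matrix Cfsg
open Cfsg.Agent.Lib.Helper5.QuadTwo Cfsg.Agent.Lib.Helper5.QuadSign

universe u

variable {F : Type u} [Field F] {ι : Type} [Fintype ι] [DecidableEq ι]

/-- square roots of one in characteristic two -/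
theorem eq_one_of_sq_eq_one (h2 : (2 : F) = 0) {z : F} (hz : z ^ 2 = 1) : z = 1 := by
  have h1 : (z - 1) ^ 2 = 0 := by
    have : (z - 1) ^ 2 = z ^ 2 - 2 * z + 1 := by ring
    rw [this, hz, h2]
    ring_nf
    rw [show (2 : F) = 0 from h2]
  exact sub_eq_zero.1 ((pow_eq_zero_iff (two_ne_zero)).1 h1)

omit [Fintype ι] [DecidableEq ι] in
/-- a fixed nonsingular point of an isometry in characteristic two is fixed vectorwise -/
theorem fixed_vector_of_fixed_point (h2 : (2 : F) = 0) (Q : QuadraticForm F (ι → F))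
    {x : Module.End F (ι → F)} (hx : ∀ v, Q (x v) = Q v) {W : Submodule F (ι → F)}
    (hW : finrank F W = 1) (hWx : W.map x ≤ W) {v : ι → F} (hv : v ∈ W) (hQv : Q v ≠ 0) :
    x v = v := by
  have hv0 : v ≠ 0 := by
    rintro rfl
    exact hQv (map_zero Q)
  obtain ⟨c, hc⟩ := exists_smul_of_finrank_one hW hv hv0 (hWx ⟨v, hv, rfl⟩)
  have h1 := hx v
  rw [← hc, QuadraticMap.map_smul, smul_eq_mul] at h1
  have h3 : c ^ 2 = 1 := by
    have : (c ^ 2 - 1) * Q v = 0 := by linear_combination h1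
    exact sub_eq_zero.1 ((mul_eq_zero.1 this).resolve_right hQv)
  rw [← hc, eq_one_of_sq_eq_one h2 h3, one_smul]

/-- an element of `Ω` of order `r` without fixed vectors contradicts the fixed point property -/
theorem not_all_fix_of_fpf (h2 : (2 : F) = 0) (Q : QuadraticForm F (ι → F))
    (hQne : ∃ v, Q v ≠ 0) (r : ℕ) (g : ↥(Cfsg.isometryGroup F ⇑Q)) (hgΩ : g ∈ Cfsg.Omega F ⇑Q)
    (hgr : g ^ r = 1)
    (hfpf : ∀ v, Matrix.toLin' ((g : GL ι F) : Matrix ι ι F) v = v → v = 0) :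
    ¬ (∀ x : GL ι F, x ∈ Cfsg.Geo.omegaGL ⇑Q →
      (∃ z : F, ((x ^ r : GL ι F) : Matrix ι ι F) = z • (1 : Matrix ι ι F)) →
      (∀ z : F, (x : Matrix ι ι F) ≠ z • (1 : Matrix ι ι F)) →
      ∃ W : Submodule F (ι → F), (Module.finrank F ↥W = 1 ∧ ∃ v ∈ W, Q v ≠ 0) ∧
        W.map (Matrix.toLin' (x : Matrix ι ι F)) ≤ W) := by
  intro H
  have hiso : ∀ v, Q (Matrix.toLin' ((g : GL ι F) : Matrix ι ι F) v) = Q v := by
    intro v
    rw [Matrix.toLin'_apply]
    exact (mem_iso_iff (⇑Q) g).1 g.2 v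
  obtain ⟨W, ⟨hW1, v, hvW, hQv⟩, hWx⟩ := H (g : GL ι F) (Subgroup.mem_map.2 ⟨g, hgΩ, rfl⟩)
    ⟨1, by
      have := congrArg (fun y : ↥(Cfsg.isometryGroup F ⇑Q) => ((y : GL ι F) : Matrix ι ι F)) hgr
      rw [one_smul]
      exact this⟩ (by
      intro z hz
      obtain ⟨v, hv⟩ := hQne
      have h1 := hiso v
      rw [hz, Matrix.toLin'_apply, Matrix.smul_mulVec, Matrix.one_mulVec,
        QuadraticMap.map_smul, smul_eq_mul] at h1
      have h3 : z ^ 2 = 1 := by
        have : (z ^ 2 - 1) * Q v = 0 := by linear_combination h1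
        exact sub_eq_zero.1 ((mul_eq_zero.1 this).resolve_right hv)
      have hz1 := eq_one_of_sq_eq_one h2 h3
      have hv0 : v ≠ 0 := by
        rintro rfl
        exact hv (map_zero Q)
      apply hv0
      apply hfpf
      rw [hz, hz1, one_smul, Matrix.toLin'_one]
      rfl)
  have hfix := fixed_vector_of_fixed_point h2 Q hiso hW1 hWx hvW hQv
  have := hfpf v hfix
  rw [this] at hQv
  exact hQv (map_zero Q)

end Cfsg.Agent.Lib.Helper5.NsPt
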