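import Mathlib
import Cfsg.Agent.Lib.Helper5.NsPt.Basic
import Cfsg.Agent.Lib.Helper5.QuadSign.TS

set_option autoImplicit false

/-!
# `Ω⁻_{2d}(q)`, `q` even, on nonsingular points
-/

namespace Cfsg.Agent.Lib.Helper5.NsPt

open QuadraticMap Module Matrix Cfsg
open Cfsg.Agent.Lib.Helper5.QuadTwo Cfsg.Agent.Lib.Helper5.QuadSign

universe u

variable {F : Type u} [Field F] [Fintype F]

omit [Fintype F] in
/-- an involutory isometry fixes the kernel of `x - 1`, which is large -/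
theorem finrank_ker_of_sq {V : Type*} [AddCommGroup V] [Module F V] [FiniteDimensional F V]
    (N : Module.End F V) (hN : ∀ v, N (N v) = 0) : finrank F V ≤ 2 * finrank F (LinearMap.ker N) := by
  have h1 := LinearMap.finrank_range_add_finrank_ker N
  have h2 : finrank F (LinearMap.range N) ≤ finrank F (LinearMap.ker N) := by
    apply Submodule.finrank_mono
    rintro _ ⟨v, rfl⟩
    exact LinearMap.mem_ker.2 (hN v)
  omega

omit [Fintype F] in
/-- the scalar `z` with `x² = z` is one, and `(x - 1)² = 0`, in characteristic two -/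
theorem sq_sub_one_of_isom (h2 : (2 : F) = 0) {ι : Type} [Fintype ι] [DecidableEq ι]
    (Q : QuadraticForm F (ι → F)) (hQne : ∃ v, Q v ≠ 0) (x : GL ι F)
    (hiso : ∀ v, Q (Matrix.toLin' (x : Matrix ι ι F) v) = Q v) {z : F}
    (hz : ((x ^ 2 : GL ι F) : Matrix ι ι F) = z • (1 : Matrix ι ι F)) :
    ∀ v, (Matrix.toLin' (x : Matrix ι ι F) - 1)
      ((Matrix.toLin' (x : Matrix ι ι F) - 1) v) = 0 := by
  have hxx : ∀ v, Matrix.toLin' (x : Matrix ι ι F) (Matrix.toLin' (x : Matrix ι ι F) v) =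
      z • v := by
    intro v
    rw [Matrix.toLin'_apply, Matrix.toLin'_apply, Matrix.mulVec_mulVec, ← pow_two]
    have : ((x : Matrix ι ι F)) ^ 2 = z • (1 : Matrix ι ι F) := by
      rw [← hz]
      rfl
    rw [this, Matrix.smul_mulVec, Matrix.one_mulVec]
  have hz1 : z = 1 := by
    obtain ⟨v, hv⟩ := hQne
    have h1 := hiso (Matrix.toLin' (x : Matrix ι ι F) v)
    rw [hxx, hiso, QuadraticMap.map_smul, smul_eq_mul] at h1
    have h3 : z ^ 2 = 1 := by
      have : (z ^ 2 - 1) * Q v = 0 := by linear_combination h1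
      exact sub_eq_zero.1 ((mul_eq_zero.1 this).resolve_right hv)
    exact eq_one_of_sq_eq_one h2 h3
  intro v
  simp only [LinearMap.sub_apply, Module.End.one_apply, map_sub]
  rw [hxx, hz1, one_smul]
  have : (2 : F) • (v - Matrix.toLin' (x : Matrix ι ι F) v) = 0 := by rw [h2, zero_smul]
  rw [← this, two_smul]
  abel

/-- **S5986**: every element of order `r` of `Ω⁻_{2m+2}(q)`, `q` even, fixes a nonsingular
point iff `r = 2`. -/
theorem minus_nspt_iff {p : ℕ} [Fact p.Prime] [CharP F p] {q : ℕ} (hq : Fintype.card F = q)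
    (hp : p = 2) (m : ℕ) (a b : F)
    (hab : ∀ x y : F, x ^ 2 + a * x * y + b * y ^ 2 = 0 → x = 0 ∧ y = 0) (r : ℕ) [Fact r.Prime]
    (hrΩ : r ∣ Nat.card {W : Submodule F ((Fin m ⊕ Fin m) ⊕ Fin 2 → F) //
      Module.finrank F ↥W = 1 ∧ ∃ v ∈ W, Cfsg.quadFormMinus m F a b v ≠ 0}) :
    (∀ x : GL ((Fin m ⊕ Fin m) ⊕ Fin 2) F,
      x ∈ Cfsg.Geo.omegaGL (Cfsg.quadFormMinus m F a b) →
      (∃ z : F, ((x ^ r : GL ((Fin m ⊕ Fin m) ⊕ Fin 2) F) :
        Matrix ((Fin m ⊕ Fin m) ⊕ Fin 2) ((Fin m ⊕ Fin m) ⊕ Fin 2) F) =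
        z • (1 : Matrix ((Fin m ⊕ Fin m) ⊕ Fin 2) ((Fin m ⊕ Fin m) ⊕ Fin 2) F)) →
      (∀ z : F, (x : Matrix ((Fin m ⊕ Fin m) ⊕ Fin 2) ((Fin m ⊕ Fin m) ⊕ Fin 2) F) ≠
        z • (1 : Matrix ((Fin m ⊕ Fin m) ⊕ Fin 2) ((Fin m ⊕ Fin m) ⊕ Fin 2) F)) →
      ∃ W : Submodule F ((Fin m ⊕ Fin m) ⊕ Fin 2 → F),
        (Module.finrank F ↥W = 1 ∧ ∃ v ∈ W, Cfsg.quadFormMinus m F a b v ≠ 0) ∧
        W.map (Matrix.toLin' (x : Matrix ((Fin m ⊕ Fin m) ⊕ Fin 2)
          ((Fin m ⊕ Fin m) ⊕ Fin 2) F)) ≤ W) ↔ r = 2 := by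
  have hr : r.Prime := Fact.out
  have hpp : p.Prime := Fact.out
  have h2 : (2 : F) = 0 := by
    have := CharP.cast_eq_zero F p
    rw [hp] at this
    exact_mod_cast this
  have hQne : ∃ v, qMinus m a b v ≠ 0 := by
    refine ⟨fun j => if j = Sum.inr 0 then 1 else 0, ?_⟩
    rw [qMinus_coe]
    unfold Cfsg.quadFormMinus
    simp
  constructor
  · intro H
    by_contra hr2
    have hrp : r ≠ p := by rw [hp]; exact hr2
    -- the number of nonsingular points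
    have hcount := card_points_of_hasSign (⇑(qMinus m a b))
      (fun c v => by rw [QuadraticMap.map_smul, smul_eq_mul]; ring) (finrank_minus m)
      (hasSign_qMinus m hab)
    rw [qMinus_coe, hq] at hcount
    have hcountN : Nat.card {W : Submodule F ((Fin m ⊕ Fin m) ⊕ Fin 2 → F) //
        Module.finrank F ↥W = 1 ∧ ∃ v ∈ W, Cfsg.quadFormMinus m F a b v ≠ 0} * q =
        q ^ (m + 1) * (q ^ (m + 1) + 1) := by
      have : ((q : ℤ) ^ (m + 1) - -1) = (q : ℤ) ^ (m + 1) + 1 := by ring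
      rw [this] at hcount
      exact_mod_cast hcount
    have hdvd1 : r ∣ q ^ (m + 1) * (q ^ (m + 1) + 1) := by
      rw [← hcountN]
      exact Dvd.dvd.mul_right hrΩ q
    have hrq : ¬ r ∣ q ^ (m + 1) := by
      intro h
      have h1 := hr.dvd_of_dvd_pow h
      obtain ⟨k, -, hk⟩ := FiniteField.card F p
      rw [hq] at hk
      rw [hk] at h1
      exact hrp ((Nat.prime_dvd_prime_iff_eq hr hpp).mp (hr.dvd_of_dvd_pow h1))
    have hdvd2 : r ∣ q ^ (m + 1) + 1 := (hr.dvd_mul.1 hdvd1).resolve_left hrq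
    have hdvd : (r : ℤ) ∣ (q : ℤ) ^ (m + 1) + 1 := by
      have := Int.natCast_dvd_natCast.2 hdvd2
      push_cast at this
      exact this
    obtain ⟨g, hgr, hgΩ, hfpf⟩ := exists_fpf_minus p hq (qMinus m a b) (nd_qMinus m hab) (m + 1)
      (by simp; ring) (hasSign_qMinus m hab) r hr hr2 hrp hdvd
    exact not_all_fix_of_fpf h2 (qMinus m a b) hQne r g hgΩ hgr hfpf H
  · rintro rfl x hx ⟨z, hz⟩ -
    obtain ⟨g, -, rfl⟩ := Subgroup.mem_map.1 hx
    have hiso : ∀ v, qMinus m a b (Matrix.toLin' ((g : GL ((Fin m ⊕ Fin m) ⊕ Fin 2) F) :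
        Matrix ((Fin m ⊕ Fin m) ⊕ Fin 2) ((Fin m ⊕ Fin m) ⊕ Fin 2) F) v) = qMinus m a b v := by
      intro v
      rw [Matrix.toLin'_apply]
      exact (mem_iso_iff _ g).1 g.2 v
    have hN := sq_sub_one_of_isom h2 (qMinus m a b) hQne _ hiso hz
    have hker := finrank_ker_of_sq _ hN
    rw [finrank_minus] at hker
    have hex : ∃ v ∈ LinearMap.ker (Matrix.toLin' ((g : GL ((Fin m ⊕ Fin m) ⊕ Fin 2) F) :
        Matrix ((Fin m ⊕ Fin m) ⊕ Fin 2) ((Fin m ⊕ Fin m) ⊕ Fin 2) F) - 1),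
        qMinus m a b v ≠ 0 := by
      by_contra hcon
      push Not at hcon
      have hs := hasSign_of_ts (m + 1) _ (qMinus m a b) (nd_qMinus m hab) (finrank_minus m) _
        hcon (by omega)
      have := hs.unique (hasSign_qMinus m hab)
      omega
    obtain ⟨v, hvK, hQv⟩ := hex
    have hfix : Matrix.toLin' ((g : GL ((Fin m ⊕ Fin m) ⊕ Fin 2) F) :
        Matrix ((Fin m ⊕ Fin m) ⊕ Fin 2) ((Fin m ⊕ Fin m) ⊕ Fin 2) F) v = v := by
      have := LinearMap.mem_ker.1 hvK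
      rwa [LinearMap.sub_apply, Module.End.one_apply, sub_eq_zero] at this
    have hv0 : v ≠ 0 := by
      rintro rfl
      exact hQv (map_zero _)
    refine ⟨Submodule.span F {v}, ⟨finrank_span_singleton hv0, v,
      Submodule.mem_span_singleton_self v, hQv⟩, ?_⟩
    rintro _ ⟨w, hw, rfl⟩
    obtain ⟨c, rfl⟩ := Submodule.mem_span_singleton.1 hw
    rw [map_smul]
    show c • Matrix.toLin' ((g : GL ((Fin m ⊕ Fin m) ⊕ Fin 2) F) :
        Matrix ((Fin m ⊕ Fin m) ⊕ Fin 2) ((Fin m ⊕ Fin m) ⊕ Fin 2) F) v ∈ _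
    rw [hfix]
    exact Submodule.smul_mem _ _ (Submodule.mem_span_singleton_self v)

end Cfsg.Agent.Lib.Helper5.NsPt
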