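import Mathlib
import Cfsg.Prelude.Def_GeometricClasses
import Cfsg.Agent.Lib.Helper5.QuadSign.Blocks

set_option autoImplicit false

/-!
# Unipotent elements `[[1, A], [0, 1]]` of `Ω⁺_{2d}`, in characteristic two
-/

namespace Cfsg.Agent.Lib.Helper5.NsPt

open Module Matrix Cfsg
open Cfsg.Agent.Lib.Helper5.QuadTwo Cfsg.Agent.Lib.Helper5.QuadSign

open scoped commutatorElement

universe u

variable {F : Type u} [Field F] {d : ℕ}

/-- symmetric matrices with zero diagonal -/
def IsAltSym (A : Matrix (Fin d) (Fin d) F) : Prop := (∀ i, A i i = 0) ∧ ∀ i j, A i j = A j i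

/-- the matrix `[[1, A], [0, 1]]` -/
noncomputable def uGL (A : Matrix (Fin d) (Fin d) F) : GL (Fin d ⊕ Fin d) F :=
  ⟨fromBlocks 1 A 0 1, fromBlocks 1 (-A) 0 1, by
    rw [fromBlocks_multiply]
    simp [fromBlocks_one], by
    rw [fromBlocks_multiply]
    simp [fromBlocks_one]⟩

theorem uGL_val (A : Matrix (Fin d) (Fin d) F) :
    ((uGL A : GL (Fin d ⊕ Fin d) F) : Matrix (Fin d ⊕ Fin d) (Fin d ⊕ Fin d) F) =
      fromBlocks 1 A 0 1 := rfl

theorem uGL_inv_val (A : Matrix (Fin d) (Fin d) F) :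
    (((uGL A)⁻¹ : GL (Fin d ⊕ Fin d) F) : Matrix (Fin d ⊕ Fin d) (Fin d ⊕ Fin d) F) =
      fromBlocks 1 (-A) 0 1 := rfl

theorem uGL_mul (A A' : Matrix (Fin d) (Fin d) F) : uGL A * uGL A' = uGL (A' + A) := by
  apply Units.ext
  rw [Units.val_mul, uGL_val, uGL_val, uGL_val, fromBlocks_multiply]
  simp

theorem uGL_zero : uGL (0 : Matrix (Fin d) (Fin d) F) = 1 := by
  apply Units.ext
  rw [uGL_val, Units.val_one, fromBlocks_one]

theorem uGL_mulVec (A : Matrix (Fin d) (Fin d) F) (v : Fin d ⊕ Fin d → F) :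
    ((uGL A : GL (Fin d ⊕ Fin d) F) : Matrix (Fin d ⊕ Fin d) (Fin d ⊕ Fin d) F) *ᵥ v =
      Sum.elim (v ∘ Sum.inl + A *ᵥ (v ∘ Sum.inr)) (v ∘ Sum.inr) := by
  rw [uGL_val, fromBlocks_mulVec, Matrix.zero_mulVec, zero_add, Matrix.one_mulVec,
    Matrix.one_mulVec]

/-- the quadratic form of an alternating matrix vanishes -/
theorem altSym_quad (h2 : (2 : F) = 0) {A : Matrix (Fin d) (Fin d) F} (hA : IsAltSym A)
    (z : Fin d → F) : ∑ i : Fin d, (A *ᵥ z) i * z i = 0 := by
  have h1 : ∑ i : Fin d, (A *ᵥ z) i * z i =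
      ∑ x ∈ (Finset.univ : Finset (Fin d × Fin d)), A x.1 x.2 * z x.2 * z x.1 := by
    rw [← Finset.univ_product_univ, Finset.sum_product]
    refine Finset.sum_congr rfl fun i _ => ?_
    rw [Matrix.mulVec, dotProduct, Finset.sum_mul]
  rw [h1]
  refine Finset.sum_involution (fun x _ => Prod.swap x) ?_ ?_ (fun _ _ => Finset.mem_univ _)
    (fun x _ => Prod.swap_swap x)
  · intro x _
    rw [Prod.fst_swap, Prod.snd_swap, hA.2 x.2 x.1]
    have : A x.1 x.2 * z x.2 * z x.1 + A x.1 x.2 * z x.1 * z x.2 =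
        2 * (A x.1 x.2 * z x.2 * z x.1) := by ring
    rw [this, h2, zero_mul]
  · intro x _ hx hsw
    apply hx
    have h3 : x.2 = x.1 := by
      have := congrArg Prod.fst hsw
      rwa [Prod.fst_swap] at this
    rw [h3, hA.1, zero_mul, zero_mul]

theorem uGL_mem (h2 : (2 : F) = 0) {A : Matrix (Fin d) (Fin d) F} (hA : IsAltSym A) :
    uGL A ∈ Cfsg.isometryGroup F (quadFormPlus d F) := by
  rw [mem_iso_iff]
  intro v
  rw [uGL_mulVec]
  show (∑ i : Fin d, ((v ∘ Sum.inl + A *ᵥ (v ∘ Sum.inr)) i) * (v ∘ Sum.inr) i) =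
    ∑ i : Fin d, v (.inl i) * v (.inr i)
  simp only [Pi.add_apply, add_mul, Finset.sum_add_distrib]
  rw [altSym_quad h2 hA, add_zero]
  rfl

/-- conjugating `[[1, A], [0, 1]]` by `diag(g, g^{-T})` -/
theorem dualBlock_conj (g : GL (Fin d) F) (A : Matrix (Fin d) (Fin d) F) :
    dualBlock g * uGL A * (dualBlock g)⁻¹ =
      uGL ((g : Matrix (Fin d) (Fin d) F) * A * (g : Matrix (Fin d) (Fin d) F)ᵀ) := by
  rw [← map_inv]
  apply Units.ext
  rw [Units.val_mul, Units.val_mul, dualBlock_val, dualBlock_val, uGL_val, uGL_val,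
    fromBlocks_multiply, fromBlocks_multiply, inv_inv]
  simp only [Matrix.mul_zero, Matrix.zero_mul, add_zero, zero_add, Matrix.mul_one]
  rw [← Units.val_mul, mul_inv_cancel, Units.val_one, ← transpose_mul, ← Units.val_mul,
    mul_inv_cancel, Units.val_one, transpose_one]

/-- the isometry `[[1, A], [0, 1]]` -/
noncomputable def uIso (h2 : (2 : F) = 0) (A : Matrix (Fin d) (Fin d) F) (hA : IsAltSym A) :
    ↥(Cfsg.isometryGroup F (quadFormPlus d F)) := ⟨uGL A, uGL_mem h2 hA⟩

/-- the commutator of `[[1, A], [0, 1]]` and `diag(g, g^{-T})` -/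
theorem uGL_comm_mem (h2 : (2 : F) = 0) {A : Matrix (Fin d) (Fin d) F} (hA : IsAltSym A)
    (g : GL (Fin d) F) :
    uGL (A + (g : Matrix (Fin d) (Fin d) F) * A * (g : Matrix (Fin d) (Fin d) F)ᵀ) ∈
      Cfsg.Geo.omegaGL (quadFormPlus d F) := by
  refine Subgroup.mem_map.2 ⟨⁅uIso h2 A hA, plusBlock d g⁆,
    Subgroup.commutator_mem_commutator (Subgroup.mem_top _) (Subgroup.mem_top _), ?_⟩
  show (uGL A * dualBlock g * (uGL A)⁻¹ * (dualBlock g)⁻¹ : GL (Fin d ⊕ Fin d) F) = _
  have hneg : (uGL A)⁻¹ = uGL A := by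
    apply Units.ext
    rw [uGL_inv_val, uGL_val]
    congr 1
    rw [neg_eq_iff_add_eq_zero, ← two_smul F A, h2, zero_smul]
  rw [hneg, mul_assoc (uGL A), mul_assoc (uGL A), dualBlock_conj, uGL_mul, add_comm]

/-- the elementary alternating matrices -/
theorem isAltSym_single {a c : Fin d} (hac : a ≠ c) (t : F) :
    IsAltSym (Matrix.single a c t + Matrix.single c a t) := by
  constructor
  · intro i
    rw [Matrix.add_apply, Matrix.single_apply_of_ne, Matrix.single_apply_of_ne, add_zero]
    · rintro ⟨rfl, h⟩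
      exact hac h
    · rintro ⟨rfl, h⟩
      exact hac h.symm
  · intro i j
    simp only [Matrix.add_apply, Matrix.single_apply]
    rw [add_comm]
    congr 1
    · exact if_congr and_comm rfl rfl
    · exact if_congr and_comm rfl rfl

/-- **the elementary unipotent elements lie in `Ω`**, `d ≥ 3` -/
theorem uGL_single_mem (h2 : (2 : F) = 0) {a b c : Fin d} (hab : a ≠ b) (hac : a ≠ c)
    (hbc : b ≠ c) (t : F) :
    uGL (Matrix.single a b t + Matrix.single b a t) ∈ Cfsg.Geo.omegaGL (quadFormPlus d F) := by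
  let g : GL (Fin d) F := ⟨Matrix.transvection b c 1, Matrix.transvection b c (-1), by
    rw [Matrix.transvection_mul_transvection_same b c hbc, add_neg_cancel,
      Matrix.transvection_zero], by
    rw [Matrix.transvection_mul_transvection_same b c hbc, neg_add_cancel,
      Matrix.transvection_zero]⟩
  have hg : (g : Matrix (Fin d) (Fin d) F) = 1 + Matrix.single b c 1 := rfl
  have hgt : (g : Matrix (Fin d) (Fin d) F)ᵀ = 1 + Matrix.single c b 1 := by
    rw [hg, transpose_add, transpose_one, Matrix.transpose_single]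
  have key := uGL_comm_mem h2 (isAltSym_single hac t) g
  have hconj : (g : Matrix (Fin d) (Fin d) F) * (Matrix.single a c t + Matrix.single c a t) *
      (g : Matrix (Fin d) (Fin d) F)ᵀ = (Matrix.single a c t + Matrix.single c a t) +
        (Matrix.single a b t + Matrix.single b a t) := by
    rw [hgt, hg]
    simp only [Matrix.add_mul, Matrix.mul_add, Matrix.one_mul, Matrix.mul_one,
      Matrix.single_mul_single_of_ne _ _ _ _ (Ne.symm hac), Matrix.single_mul_single_same,
      Matrix.single_mul_single_of_ne _ _ _ _ hac, one_mul, mul_one, Matrix.zero_mul,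
      add_zero, zero_add]
    abel
  rw [hconj] at key
  have hsum : (Matrix.single a c t + Matrix.single c a t) +
      ((Matrix.single a c t + Matrix.single c a t) +
        (Matrix.single a b t + Matrix.single b a t)) =
      Matrix.single a b t + Matrix.single b a t := by
    rw [← add_assoc]
    have : (Matrix.single a c t + Matrix.single c a t : Matrix (Fin d) (Fin d) F) +
        (Matrix.single a c t + Matrix.single c a t) = 0 := by
      rw [← two_smul F, h2, zero_smul]
    rw [this, zero_add]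
  rw [hsum] at key
  exact key

/-- sums of elementary alternating matrices -/
theorem uGL_sum_mem (h2 : (2 : F) = 0) (hd : 3 ≤ d) {κ : Type*} (s : Finset κ) (a b : κ → Fin d)
    (hab : ∀ k, a k ≠ b k) :
    uGL (∑ k ∈ s, (Matrix.single (a k) (b k) (1 : F) + Matrix.single (b k) (a k) 1)) ∈
      Cfsg.Geo.omegaGL (quadFormPlus d F) := by
  refine Finset.sum_induction _ (fun X => uGL X ∈ Cfsg.Geo.omegaGL (quadFormPlus d F)) ?_ ?_ ?_
  · intro X Y hX hY
    rw [add_comm, ← uGL_mul]
    exact Subgroup.mul_mem _ hX hY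
  · rw [uGL_zero]
    exact Subgroup.one_mem _
  · intro k _
    -- a third index
    obtain ⟨c, hc1, hc2⟩ : ∃ c : Fin d, a k ≠ c ∧ b k ≠ c := by
      by_contra hcon
      push Not at hcon
      have hsub : (Finset.univ : Finset (Fin d)) ⊆ {a k, b k} := by
        intro c _
        by_cases h : a k = c
        · simp [h]
        · simp [(hcon c h).symm]
      have := Finset.card_le_card hsub
      rw [Finset.card_univ, Fintype.card_fin] at this
      have h3 := Finset.card_le_two (a := a k) (b := b k)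
      omega
    exact uGL_single_mem h2 (hab k) hc1 hc2 1

end Cfsg.Agent.Lib.Helper5.NsPt
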