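import Mathlib
import Cfsg.Agent.Lib.Helper5.NsPt.MainMinus
import Cfsg.Agent.Lib.Helper5.NsPt.UpperPlus
import Cfsg.Agent.Lib.Helper5.OUnip.Basic

set_option autoImplicit false

/-!
# `Ω⁺_{2d}(q)`, `q` even, on nonsingular points
-/

namespace Cfsg.Agent.Lib.Helper5.NsPt

open QuadraticMap Module Matrix Cfsg
open Cfsg.Agent.Lib.Helper5.QuadTwo Cfsg.Agent.Lib.Helper5.QuadSign

universe u

variable {F : Type u} [Field F]

/-- the alternating matrix of a perfect matching -/
noncomputable def matchMat {d e : ℕ} (σ : Fin e ⊕ Fin e ≃ Fin d) : Matrix (Fin d) (Fin d) F :=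
  ∑ k : Fin e, (Matrix.single (σ (Sum.inl k)) (σ (Sum.inr k)) (1 : F) +
    Matrix.single (σ (Sum.inr k)) (σ (Sum.inl k)) 1)

theorem matchMat_mulVec {d e : ℕ} (σ : Fin e ⊕ Fin e ≃ Fin d) (z : Fin d → F) (i : Fin d) :
    ((matchMat σ : Matrix (Fin d) (Fin d) F) *ᵥ z) i =
      ∑ k : Fin e, ((if i = σ (Sum.inl k) then z (σ (Sum.inr k)) else 0) +
        (if i = σ (Sum.inr k) then z (σ (Sum.inl k)) else 0)) := by
  unfold matchMat
  rw [Matrix.sum_mulVec, Finset.sum_apply]
  refine Finset.sum_congr rfl fun k _ => ?_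
  rw [Matrix.add_mulVec, Pi.add_apply, Matrix.single_mulVec, Matrix.single_mulVec,
    Function.update_apply, Function.update_apply, one_mul, one_mul]
  rfl

theorem matchMat_mulVec_inl {d e : ℕ} (σ : Fin e ⊕ Fin e ≃ Fin d) (z : Fin d → F) (k₀ : Fin e) :
    ((matchMat σ : Matrix (Fin d) (Fin d) F) *ᵥ z) (σ (Sum.inl k₀)) = z (σ (Sum.inr k₀)) := by
  rw [matchMat_mulVec, Finset.sum_eq_single k₀]
  · rw [if_pos rfl, if_neg, add_zero]
    intro h
    exact absurd (σ.injective h) (by simp)
  · intro k _ hk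
    rw [if_neg, if_neg, add_zero]
    · intro h
      exact absurd (σ.injective h) (by simp)
    · intro h
      exact hk (Sum.inl_injective (σ.injective h)).symm
  · intro h
    exact absurd (Finset.mem_univ _) h

theorem matchMat_mulVec_inr {d e : ℕ} (σ : Fin e ⊕ Fin e ≃ Fin d) (z : Fin d → F) (k₀ : Fin e) :
    ((matchMat σ : Matrix (Fin d) (Fin d) F) *ᵥ z) (σ (Sum.inr k₀)) = z (σ (Sum.inl k₀)) := by
  rw [matchMat_mulVec, Finset.sum_eq_single k₀]
  · rw [if_pos rfl, if_neg, zero_add]
    intro h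
    exact absurd (σ.injective h) (by simp)
  · intro k _ hk
    rw [if_neg, if_neg, add_zero]
    · intro h
      exact hk (Sum.inr_injective (σ.injective h)).symm
    · intro h
      exact absurd (σ.injective h) (by simp)
  · intro h
    exact absurd (Finset.mem_univ _) h

/-- the matrix of a perfect matching has trivial kernel -/
theorem matchMat_ker {d e : ℕ} (σ : Fin e ⊕ Fin e ≃ Fin d) (z : Fin d → F)
    (hz : (matchMat σ : Matrix (Fin d) (Fin d) F) *ᵥ z = 0) : z = 0 := by
  funext i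
  obtain ⟨s, rfl⟩ := σ.surjective i
  rcases s with k | k
  · have := matchMat_mulVec_inr σ z k
    rw [hz] at this
    exact this.symm
  · have := matchMat_mulVec_inl σ z k
    rw [hz] at this
    exact this.symm

variable [Fintype F]

/-- **S5985**: every element of order `r` of `Ω⁺_{2d}(q)`, `q` even, fixes a nonsingular
point iff `r = 2` and `d` is odd. -/
theorem plus_nspt_iff {p : ℕ} [Fact p.Prime] [CharP F p] {q : ℕ} (hq : Fintype.card F = q)
    (hp : p = 2) (d : ℕ) (hd : 3 ≤ d) (r : ℕ) [Fact r.Prime]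
    (hrΩ : r ∣ Nat.card {W : Submodule F (Fin d ⊕ Fin d → F) //
      Module.finrank F ↥W = 1 ∧ ∃ v ∈ W, Cfsg.quadFormPlus d F v ≠ 0}) :
    (∀ x : GL (Fin d ⊕ Fin d) F, x ∈ Cfsg.Geo.omegaGL (Cfsg.quadFormPlus d F) →
      (∃ z : F, ((x ^ r : GL (Fin d ⊕ Fin d) F) : Matrix (Fin d ⊕ Fin d) (Fin d ⊕ Fin d) F) =
        z • (1 : Matrix (Fin d ⊕ Fin d) (Fin d ⊕ Fin d) F)) →
      (∀ z : F, (x : Matrix (Fin d ⊕ Fin d) (Fin d ⊕ Fin d) F) ≠
        z • (1 : Matrix (Fin d ⊕ Fin d) (Fin d ⊕ Fin d) F)) →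
      ∃ W : Submodule F (Fin d ⊕ Fin d → F),
        (Module.finrank F ↥W = 1 ∧ ∃ v ∈ W, Cfsg.quadFormPlus d F v ≠ 0) ∧
        W.map (Matrix.toLin' (x : Matrix (Fin d ⊕ Fin d) (Fin d ⊕ Fin d) F)) ≤ W) ↔
      (r = 2 ∧ Odd d) := by
  have hr : r.Prime := Fact.out
  have hpp : p.Prime := Fact.out
  have h2 : (2 : F) = 0 := by
    have := CharP.cast_eq_zero F p
    rw [hp] at this
    exact_mod_cast this
  have hd0 : 0 < d := by omega
  have hQne : ∃ v, qPlus (F := F) d v ≠ 0 := by
    refine ⟨fun j => if j = Sum.inl ⟨0, hd0⟩ ∨ j = Sum.inr ⟨0, hd0⟩ then (1 : F) else 0, ?_⟩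
    rw [qPlus_apply, Finset.sum_eq_single ⟨0, hd0⟩]
    · simp
    · intro i _ hi
      simp [hi]
    · intro h
      exact absurd (Finset.mem_univ _) h
  constructor
  · intro H
    have hr2 : r = 2 := by
      by_contra hr2
      have hrp : r ≠ p := by rw [hp]; exact hr2
      have hcount := card_points_of_hasSign (F := F) (⇑(qPlus (F := F) d))
        (fun c v => by rw [QuadraticMap.map_smul, smul_eq_mul]; ring) (finrank_plus d)
        (hasSign_qPlus d)
      rw [qPlus_coe, hq] at hcount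
      have hdvd1 : (r : ℤ) ∣ (q : ℤ) ^ d * ((q : ℤ) ^ d - 1) := by
        rw [← hcount]
        exact Dvd.dvd.mul_right (Int.natCast_dvd_natCast.2 hrΩ) _
      have hrq : ¬ (r : ℤ) ∣ (q : ℤ) ^ d := by
        intro h
        have h0 : r ∣ q ^ d := by
          apply Int.natCast_dvd_natCast.1
          push_cast
          exact h
        have h1 := hr.dvd_of_dvd_pow h0
        obtain ⟨k, -, hk⟩ := FiniteField.card F p
        rw [hq] at hk
        rw [hk] at h1
        exact hrp ((Nat.prime_dvd_prime_iff_eq hr hpp).mp (hr.dvd_of_dvd_pow h1))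
      have hdvd : (r : ℤ) ∣ (q : ℤ) ^ d - 1 :=
        ((Nat.prime_iff_prime_int.1 hr).dvd_or_dvd hdvd1).resolve_left hrq
      obtain ⟨g, hgr, hgΩ, hfpf⟩ := exists_fpf_plus p hq d r hr hr2 hrp hdvd
      exact not_all_fix_of_fpf h2 (qPlus d) hQne r g hgΩ hgr hfpf H
    refine ⟨hr2, ?_⟩
    subst hr2
    by_contra hodd
    rw [Nat.not_odd_iff_even] at hodd
    obtain ⟨e, he⟩ := hodd
    let σ : Fin e ⊕ Fin e ≃ Fin d := finSumFinEquiv.trans (finCongr he.symm)
    have hmem : uGL (matchMat σ : Matrix (Fin d) (Fin d) F) ∈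
        Cfsg.Geo.omegaGL (quadFormPlus d F) :=
      uGL_sum_mem h2 hd Finset.univ (fun k => σ (Sum.inl k)) (fun k => σ (Sum.inr k))
        (fun k h => absurd (σ.injective h) (by simp))
    have hsq : uGL (matchMat σ : Matrix (Fin d) (Fin d) F) ^ 2 = 1 := by
      rw [pow_two, uGL_mul, ← two_smul F, h2, zero_smul, uGL_zero]
    have he1 : 0 < e := by omega
    obtain ⟨W, ⟨hW1, v, hvW, hQv⟩, hWx⟩ := H _ hmem ⟨1, by rw [hsq, one_smul]; rfl⟩ (by
      intro z hz
      have h1 := congrArg (fun M : Matrix (Fin d ⊕ Fin d) (Fin d ⊕ Fin d) F =>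
        (M *ᵥ (Sum.elim 0 (Pi.single (σ (Sum.inr ⟨0, he1⟩)) 1))) (Sum.inl (σ (Sum.inl ⟨0, he1⟩)))) hz
      rw [uGL_mulVec, Matrix.smul_mulVec, Matrix.one_mulVec] at h1
      simp only [Sum.elim_inl, Pi.add_apply, Function.comp_apply, Pi.smul_apply, Pi.zero_apply,
        smul_eq_mul, mul_zero, zero_add] at h1
      have h3 : (Sum.elim (0 : Fin d → F) (Pi.single (σ (Sum.inr ⟨0, he1⟩)) 1)) ∘ Sum.inr =
          Pi.single (σ (Sum.inr ⟨0, he1⟩)) 1 := by
        funext j
        rfl
      rw [h3, matchMat_mulVec_inl, Pi.single_eq_same] at h1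
      exact one_ne_zero h1)
    have hiso : ∀ w, qPlus d (Matrix.toLin' ((uGL (matchMat σ : Matrix (Fin d) (Fin d) F) :
        GL (Fin d ⊕ Fin d) F) : Matrix (Fin d ⊕ Fin d) (Fin d ⊕ Fin d) F) w) = qPlus d w := by
      intro w
      rw [Matrix.toLin'_apply]
      obtain ⟨g, -, hg⟩ := Subgroup.mem_map.1 hmem
      rw [← hg]
      exact (mem_iso_iff _ g).1 g.2 w
    have hfix := fixed_vector_of_fixed_point h2 (qPlus d) hiso hW1 hWx hvW hQv
    rw [Matrix.toLin'_apply, uGL_mulVec] at hfix
    have h4 : (matchMat σ : Matrix (Fin d) (Fin d) F) *ᵥ (v ∘ Sum.inr) = 0 := by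
      have h5 := congrArg (fun w : Fin d ⊕ Fin d → F => w ∘ Sum.inl) hfix
      funext i
      have h6 := congrFun h5 i
      simp only [Function.comp_apply, Sum.elim_inl, Pi.add_apply] at h6
      rw [Pi.zero_apply]
      linear_combination h6
    have h7 := matchMat_ker σ _ h4
    apply hQv
    show qPlus d v = 0
    rw [qPlus_apply]
    refine Finset.sum_eq_zero fun i _ => ?_
    have := congrFun h7 i
    rw [Function.comp_apply, Pi.zero_apply] at this
    rw [this, mul_zero]
  · rintro ⟨rfl, hodd⟩ x hx ⟨z, hz⟩ -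
    obtain ⟨g, -, rfl⟩ := Subgroup.mem_map.1 hx
    have hiso : ∀ v, qPlus d (Matrix.toLin' ((g : GL (Fin d ⊕ Fin d) F) :
        Matrix (Fin d ⊕ Fin d) (Fin d ⊕ Fin d) F) v) = qPlus d v := by
      intro v
      rw [Matrix.toLin'_apply]
      exact (mem_iso_iff _ g).1 g.2 v
    have hN := sq_sub_one_of_isom h2 (qPlus d) hQne _ hiso hz
    have hker := finrank_ker_of_sq _ hN
    rw [finrank_plus] at hker
    set N : Module.End F (Fin d ⊕ Fin d → F) := Matrix.toLin' ((g : GL (Fin d ⊕ Fin d) F) :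
        Matrix (Fin d ⊕ Fin d) (Fin d ⊕ Fin d) F) - 1 with hNdef
    have hex : ∃ v ∈ LinearMap.ker N, qPlus d v ≠ 0 := by
      by_contra hcon
      push Not at hcon
      -- the polar form
      have hsymm : ∀ x y, polarBilin (qPlus (F := F) d) x y = polarBilin (qPlus d) y x :=
        fun x y => polar_comm _ x y
      have hnd : ∀ x, (∀ y, polarBilin (qPlus (F := F) d) x y = 0) → x = 0 := by
        intro x hx
        apply nd_qPlus d
        intro w
        rw [polar_comm]
        exact hx w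
      have hrefl : (polarBilin (qPlus (F := F) d)).IsRefl := fun x y h => by
        rw [hsymm]; exact h
      have hB : (polarBilin (qPlus (F := F) d)).Nondegenerate :=
        (hrefl.nondegenerate_iff_separatingLeft).2 hnd
      -- the kernel is totally isotropic
      have hle : LinearMap.ker N ≤
          LinearMap.BilinForm.orthogonal (polarBilin (qPlus (F := F) d)) (LinearMap.ker N) := by
        intro v hv
        rw [LinearMap.BilinForm.mem_orthogonal_iff]
        intro w hw
        show polar (qPlus d) w v = 0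
        unfold polar
        rw [hcon _ (Submodule.add_mem _ hw hv), hcon w hw, hcon v hv]
        ring
      have h1 := Submodule.finrank_mono hle
      rw [LinearMap.BilinForm.finrank_orthogonal hB, finrank_plus] at h1
      have hkd : finrank F (LinearMap.ker N) = d := by omega
      have hrd : finrank F (LinearMap.range N) = d := by
        have := LinearMap.finrank_range_add_finrank_ker N
        rw [finrank_plus] at this
        omega
      have hev := Cfsg.Agent.Lib.Helper5.OUnip.even_rank_of_alt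
        (B := polarBilin (qPlus (F := F) d)) hsymm hnd N (by
          intro u
          show polar (qPlus d) u (N u) = 0
          have hx : u + N u = Matrix.toLin' ((g : GL (Fin d ⊕ Fin d) F) :
              Matrix (Fin d ⊕ Fin d) (Fin d ⊕ Fin d) F) u := by
            rw [hNdef, LinearMap.sub_apply, Module.End.one_apply]
            abel
          unfold polar
          rw [hx, hiso, hcon (N u) (LinearMap.mem_ker.2 (hN u))]
          ring)
      rw [hrd] at hev
      exact (Nat.not_even_iff_odd.2 hodd) hev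
    obtain ⟨v, hvK, hQv⟩ := hex
    have hfix : Matrix.toLin' ((g : GL (Fin d ⊕ Fin d) F) :
        Matrix (Fin d ⊕ Fin d) (Fin d ⊕ Fin d) F) v = v := by
      have := LinearMap.mem_ker.1 hvK
      rwa [hNdef, LinearMap.sub_apply, Module.End.one_apply, sub_eq_zero] at this
    have hv0 : v ≠ 0 := by
      rintro rfl
      exact hQv (map_zero _)
    refine ⟨Submodule.span F {v}, ⟨finrank_span_singleton hv0, v,
      Submodule.mem_span_singleton_self v, hQv⟩, ?_⟩
    rintro _ ⟨w, hw, rfl⟩
    obtain ⟨c, rfl⟩ := Submodule.mem_span_singleton.1 hw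
    rw [map_smul]
    show c • Matrix.toLin' ((g : GL (Fin d ⊕ Fin d) F) :
        Matrix (Fin d ⊕ Fin d) (Fin d ⊕ Fin d) F) v ∈ _
    rw [hfix]
    exact Submodule.smul_mem _ _ (Submodule.mem_span_singleton_self v)

end Cfsg.Agent.Lib.Helper5.NsPt
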